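import Mathlib
import Cfsg.Agent.Schreier.RuSyl

-- merged: Cfsg.Agent.KFacts.PcTail
section

/-!
# Collecting words modulo a central involution

A group with generators `a i`, a central `c` with `c * c = 1`, relations
`a i * a i = w * c ^ e`, `a j * a i = a i * a j * w' * c ^ e'` (`i < j`) with unknown exponents `e` (*tails*).
`mulL`, `col` collect words, the exponents are collected as bit masks; every equality of words gives a linear equation
between the tails (`chkE`, `chkK`), and `lin_of_comb` solves the system.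
-/

set_option autoImplicit false

namespace Cfsg.Agent.KFacts.PcTail

open Finset

/-! ### masks -/

/-- the sum of the `e k` over the bits `k < n` of `M` -/
def lin (n : ℕ) (e : ℕ → ZMod 2) (M : ℕ) : ZMod 2 := ∑ k ∈ range n, if M.testBit k = true then e k else 0

theorem lin_zero (n : ℕ) (e : ℕ → ZMod 2) : lin n e 0 = 0 := by
  unfold lin
  apply Finset.sum_eq_zero
  intro k _
  simp

theorem lin_xor (n : ℕ) (e : ℕ → ZMod 2) (M M' : ℕ) : lin n e (Nat.xor M M') = lin n e M + lin n e M' := by
  unfold lin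
  rw [← Finset.sum_add_distrib]
  apply Finset.sum_congr rfl
  intro k _
  have h : (Nat.xor M M').testBit k = ((M.testBit k) ^^ (M'.testBit k)) := Nat.testBit_xor M M' k
  rw [h]
  cases M.testBit k <;> cases M'.testBit k <;> simp [CharTwo.add_self_eq_zero]

theorem lin_two_pow {n : ℕ} (e : ℕ → ZMod 2) {k : ℕ} (hk : k < n) : lin n e (2 ^ k) = e k := by
  unfold lin
  rw [Finset.sum_eq_single k]
  · simp [Nat.testBit_two_pow_self]
  · intro j _ hj
    rw [Nat.testBit_two_pow_of_ne (Ne.symm hj)]
    simp
  · intro h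
    exact absurd (Finset.mem_range.2 hk) h

/-- the sum of the masks at the bits of the second number, beginning with bit `i` -/
def comb : List ℕ → ℕ → ℕ → ℕ
  | [], _, _ => 0
  | E :: l, C, i => cond (Nat.testBit C i) (Nat.xor E (comb l C (i + 1))) (comb l C (i + 1))

theorem lin_comb {n : ℕ} {e : ℕ → ZMod 2} : ∀ (l : List ℕ) (C i : ℕ), (∀ E ∈ l, lin n e E = 0) →
    lin n e (comb l C i) = 0
  | [], _, _, _ => lin_zero _ _
  | E :: l, C, i, h => by
    have ih := lin_comb l C (i + 1) fun E' hE' => h E' (List.mem_cons_of_mem _ hE')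
    unfold comb
    cases Nat.testBit C i with
    | true => rw [cond_true, lin_xor, ih, h E List.mem_cons_self, add_zero]
    | false => rw [cond_false, ih]

/-- the tails vanish -/
theorem eq_zero_of_comb {n : ℕ} {e : ℕ → ZMod 2} {l cs : List ℕ} (h : ∀ E ∈ l, lin n e E = 0)
    (hc : ∀ k < n, Nat.beq (comb l (cs.getD k 0) 0) (2 ^ k) = true) {k : ℕ} (hk : k < n) : e k = 0 := by
  rw [← lin_two_pow e hk, ← Nat.eq_of_beq_eq_true (hc k hk)]
  exact lin_comb l _ _ h

section group

variable {L : Type*} [Group L]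

/-- powers of `c` -/
def cp (c : L) (z : ZMod 2) : L := if z = 0 then 1 else c

theorem cp_zero (c : L) : cp c 0 = 1 := if_pos rfl

theorem cp_add {c : L} (hc : c * c = 1) : ∀ x y : ZMod 2, cp c (x + y) = cp c x * cp c y := by
  have h1 : (1 : ZMod 2) ≠ 0 := by decide
  have h2 : (1 : ZMod 2) + 1 = 0 := by decide
  intro x y
  have hz : ∀ z : ZMod 2, z = 0 ∨ z = 1 := by decide
  rcases hz x with rfl | rfl <;> rcases hz y with rfl | rfl
  · simp [cp]
  · simp [cp]
  · simp [cp]
  · simp only [cp, h2, if_true, if_neg h1, hc]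

theorem cp_self {c : L} (hc : c * c = 1) (x : ZMod 2) : cp c x * cp c x = 1 := by
  rw [← cp_add hc, CharTwo.add_self_eq_zero, cp_zero]

theorem cp_comm {c : L} (hcen : ∀ x, c * x = x * c) (z : ZMod 2) (x : L) : cp c z * x = x * cp c z := by
  unfold cp
  split
  · rw [one_mul, mul_one]
  · exact hcen x

theorem cp_eq_one {c : L} (h1 : c ≠ 1) {z : ZMod 2} (h : cp c z = 1) : z = 0 := by
  unfold cp at h
  by_contra hz
  rw [if_neg hz] at h
  exact h1 h

/-- value of a word -/
def ev (a : ℕ → L) (w : List ℕ) : L := (w.map a).prod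

theorem ev_nil (a : ℕ → L) : ev a [] = 1 := rfl

theorem ev_cons (a : ℕ → L) (k : ℕ) (w : List ℕ) : ev a (k :: w) = a k * ev a w := by
  unfold ev; rw [List.map_cons, List.prod_cons]

theorem ev_append (a : ℕ → L) (u v : List ℕ) : ev a (u ++ v) = ev a u * ev a v := by
  unfold ev; rw [List.map_append, List.prod_append]

theorem ev_single (a : ℕ → L) (k : ℕ) : ev a [k] = a k := by rw [ev_cons, ev_nil, mul_one]

end group

/-! ### the collector -/

/-- tables -/
structure Tab where
  m : ℕ
  n : ℕ
  sq : ℕ → List ℕ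
  cm : ℕ → ℕ → List ℕ
  sid : ℕ → ℕ
  tid : ℕ → ℕ → ℕ

/-- `a i`, `c` satisfy the relations of the table with tails `e` -/
structure Rel {L : Type*} [Group L] (T : Tab) (a : ℕ → L) (c : L) (e : ℕ → ZMod 2) : Prop where
  ne : c ≠ 1
  cc : c * c = 1
  cen : ∀ x, c * x = x * c
  sq : ∀ i < T.m, a i * a i = ev a (T.sq i) * cp c (lin T.n e (Nat.pow 2 (T.sid i)))
  cm : ∀ i j, i < j → j < T.m → a j * a i = a i * a j * ev a (T.cm i j) * cp c (lin T.n e (Nat.pow 2 (T.tid i j)))

/-- collect a list of letters from the right -/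
def ls {β : Type} (f : ℕ → List ℕ → ℕ → (List ℕ → ℕ → β) → β) : List ℕ → List ℕ → ℕ → (List ℕ → ℕ → β) → β
  | [], r, M, K => K r M
  | w :: ws, r, M, K => ls f ws r M fun r1 M1 => f w r1 M1 K

/-- multiply from the left by the letter `k` -/
def mulL {β : Type} (T : Tab) : ℕ → ℕ → List ℕ → ℕ → (List ℕ → ℕ → β) → β
  | 0, k, r, M, K => K (k :: r) M
  | _ + 1, k, [], M, K => K [k] M
  | f + 1, k, j :: r, M, K =>
    cond (Nat.blt k T.m)
      (cond (Nat.blt k j) (K (k :: j :: r) M)
        (cond (Nat.beq k j) (ls (mulL T f) (T.sq k) r (Nat.xor M (Nat.pow 2 (T.sid k))) K)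
          (ls (mulL T f) (T.cm j k) r (Nat.xor M (Nat.pow 2 (T.tid j k))) fun r1 M1 =>
            mulL T f k r1 M1 fun r2 M2 => K (j :: r2) M2)))
      (K (k :: j :: r) M)

/-- collect a word -/
def col {β : Type} (T : Tab) (w : List ℕ) (M : ℕ) (K : List ℕ → ℕ → β) : β := ls (mulL T 200) w [] M K

section sound

variable {L : Type*} [Group L] {T : Tab} {a : ℕ → L} {c : L} {e : ℕ → ZMod 2}

/-- the function `F` returns a representation of `x` -/
def Spec {β : Type} (T : Tab) (a : ℕ → L) (c : L) (e : ℕ → ZMod 2) (F : (List ℕ → ℕ → β) → β) (x : L) : Prop :=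
  ∃ (r : List ℕ) (M : ℕ), (∀ K, F K = K r M) ∧ x = ev a r * cp c (lin T.n e M)

theorem ls_spec {β : Type} (h : Rel T a c e) {f : ℕ → List ℕ → ℕ → (List ℕ → ℕ → β) → β}
    (hf : ∀ k r M, Spec T a c e (f k r M) (a k * ev a r * cp c (lin T.n e M))) :
    ∀ (w r : List ℕ) (M : ℕ), Spec T a c e (ls f w r M) (ev a w * ev a r * cp c (lin T.n e M))
  | [], r, M => ⟨r, M, fun K => rfl, by rw [ev_nil, one_mul]⟩
  | k :: w, r, M => by
    obtain ⟨r1, M1, h1, h2⟩ := ls_spec h hf w r M
    obtain ⟨r2, M2, h3, h4⟩ := hf k r1 M1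
    refine ⟨r2, M2, fun K => ?_, ?_⟩
    · show ls f w r M (fun r1 M1 => f k r1 M1 K) = _
      rw [h1, h3]
    · rw [← h4, ev_cons, mul_assoc, mul_assoc, ← mul_assoc (ev a w), h2, mul_assoc]

theorem mulL_spec {β : Type} (h : Rel T a c e) : ∀ (f k : ℕ) (r : List ℕ) (M : ℕ),
    Spec T a c e (mulL (β := β) T f k r M) (a k * ev a r * cp c (lin T.n e M))
  | 0, k, r, M => ⟨k :: r, M, fun _ => rfl, by rw [ev_cons]⟩
  | f + 1, k, [], M => ⟨[k], M, fun _ => rfl, by rw [ev_single, ev_nil, mul_one]⟩
  | f + 1, k, j :: r, M => by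
    have key : ∀ x y, cp c (lin T.n e (Nat.xor x y)) = cp c (lin T.n e x) * cp c (lin T.n e y) := fun x y => by
      rw [lin_xor, cp_add h.cc]
    have hcm := fun z (x : L) => cp_comm h.cen z x
    by_cases h1 : Nat.blt k T.m = true
    · by_cases h2 : Nat.blt k j = true
      · refine ⟨k :: j :: r, M, fun K => ?_, by rw [ev_cons a k]⟩
        unfold mulL
        rw [h1, h2, cond_true, cond_true]
      · by_cases h3 : Nat.beq k j = true
        · have hkj : k = j := Nat.eq_of_beq_eq_true h3
          obtain ⟨r1, M1, h4, h5⟩ := ls_spec h (mulL_spec h f) (T.sq k) r (Nat.xor M (Nat.pow 2 (T.sid k)))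
          refine ⟨r1, M1, fun K => ?_, ?_⟩
          · unfold mulL
            rw [h1, Bool.eq_false_of_not_eq_true h2, h3, cond_true, cond_false, cond_true, h4]
          · rw [← h5, key, ev_cons, ← hkj, ← mul_assoc (a k), h.sq k (Nat.blt_eq.mp h1)]
            rw [← mul_assoc (ev a (T.sq k) * ev a r), mul_assoc (ev a (T.sq k)), hcm, ← mul_assoc,
              mul_assoc (ev a (T.sq k) * ev a r), hcm, ← mul_assoc]
        · obtain ⟨r1, M1, h4, h5⟩ := ls_spec h (mulL_spec h f) (T.cm j k) r (Nat.xor M (Nat.pow 2 (T.tid j k)))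
          obtain ⟨r2, M2, h6, h7⟩ := mulL_spec (β := β) h f k r1 M1
          refine ⟨j :: r2, M2, fun K => ?_, ?_⟩
          · unfold mulL
            rw [h1, Bool.eq_false_of_not_eq_true h2, Bool.eq_false_of_not_eq_true h3, cond_true, cond_false, cond_false, h4, h6]
          · have hk : k < T.m := Nat.blt_eq.mp h1
            have h8 : ¬ k < j := fun h8 => h2 (Nat.blt_eq.mpr h8)
            have h9 : k ≠ j := fun h9 => h3 (by rw [h9]; exact Nat.beq_refl j)
            have hr := h.cm j k (by omega) hk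
            have hs := hcm (lin T.n e (Nat.pow 2 (T.tid j k)))
            rw [ev_cons a j r2, mul_assoc (a j), ← h7, mul_assoc (a k) (ev a r1), ← h5, key, ev_cons a j r,
              ← mul_assoc (a k) (a j), hr]
            generalize ev a (T.cm j k) = u
            generalize ev a r = v
            generalize cp c (lin T.n e (Nat.pow 2 (T.tid j k))) = s at *
            generalize cp c (lin T.n e M) = t
            calc a j * a k * u * s * v * t = a j * a k * u * (s * (v * t)) := by simp only [mul_assoc]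
              _ = a j * a k * u * (v * t * s) := by rw [hs]
              _ = a j * (a k * (u * v * (t * s))) := by simp only [mul_assoc]
    · refine ⟨k :: j :: r, M, fun K => ?_, by rw [ev_cons a k]⟩
      unfold mulL
      rw [Bool.eq_false_of_not_eq_true h1, cond_false]

theorem col_spec {β : Type} (h : Rel T a c e) (w : List ℕ) (M : ℕ) :
    Spec T a c e (col (β := β) T w M) (ev a w * cp c (lin T.n e M)) := by
  have h1 := ls_spec (β := β) h (mulL_spec h 200) w [] M
  rw [ev_nil, mul_one] at h1
  exact h1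

/-- equality of lists -/
def beqL : List ℕ → List ℕ → Bool
  | [], [] => true
  | x :: l, y :: r => cond (Nat.beq x y) (beqL l r) false
  | _, _ => false

theorem and_of_cond {x y : Bool} (h : cond x y false = true) : x = true ∧ y = true := by
  cases x
  · exact absurd h Bool.false_ne_true
  · exact ⟨rfl, h⟩

theorem eq_of_beqL : ∀ {l r : List ℕ}, beqL l r = true → l = r
  | [], [], _ => rfl
  | x :: l, y :: r, h => by
    obtain ⟨h1, h2⟩ := and_of_cond h
    rw [Nat.eq_of_beq_eq_true h1, eq_of_beqL h2]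
  | [], _ :: _, h => absurd h Bool.false_ne_true
  | _ :: _, [], h => absurd h Bool.false_ne_true

/-- the words `u`, `v` have the same normal form, `E` is the difference of the tails -/
def chkE (T : Tab) (u v : List ℕ) (E : ℕ) : Bool :=
  col T u 0 fun r1 M1 => col T v M1 fun r2 M2 => cond (beqL r1 r2) (Nat.beq M2 E) false

/-- `E` is the difference of the tails of `(u) v` and `u v` -/
def chkK (T : Tab) (u v : List ℕ) (E : ℕ) : Bool :=
  col T (u ++ v) 0 fun r1 M1 => col T u M1 fun r2 M2 => col T (r2 ++ v) M2 fun r3 M3 =>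
    cond (beqL r1 r3) (Nat.beq M3 E) false

theorem chkE_sound (h : Rel T a c e) {u v : List ℕ} {E : ℕ} (hE : chkE T u v E = true) (huv : ev a u = ev a v) :
    lin T.n e E = 0 := by
  obtain ⟨r1, M1, h1, h2⟩ := col_spec (β := Bool) h u 0
  obtain ⟨r2, M2, h3, h4⟩ := col_spec (β := Bool) h v M1
  unfold chkE at hE
  rw [h1, h3] at hE
  obtain ⟨h5, h6⟩ := and_of_cond hE
  rw [Nat.eq_of_beq_eq_true h6] at h4
  rw [lin_zero, cp_zero, mul_one, huv] at h2
  rw [h2, ← eq_of_beqL h5, mul_assoc, cp_self h.cc] at h4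
  exact cp_eq_one h.ne (mul_left_cancel h4).symm

theorem chkK_sound (h : Rel T a c e) {u v : List ℕ} {E : ℕ} (hE : chkK T u v E = true) : lin T.n e E = 0 := by
  obtain ⟨r1, M1, h1, h2⟩ := col_spec (β := Bool) h (u ++ v) 0
  obtain ⟨r2, M2, h3, h4⟩ := col_spec (β := Bool) h u M1
  obtain ⟨r3, M3, h5, h6⟩ := col_spec (β := Bool) h (r2 ++ v) M2
  unfold chkK at hE
  rw [h1, h3, h5] at hE
  obtain ⟨h7, h8⟩ := and_of_cond hE
  rw [Nat.eq_of_beq_eq_true h8, ← eq_of_beqL h7] at h6
  rw [lin_zero, cp_zero, mul_one, ev_append] at h2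
  have e1 : ev a (r2 ++ v) * cp c (lin T.n e M2) = ev a r1 * cp c (lin T.n e M1) * cp c (lin T.n e M1) := by
    calc ev a (r2 ++ v) * cp c (lin T.n e M2) = ev a r2 * (ev a v * cp c (lin T.n e M2)) := by
          rw [ev_append, mul_assoc]
      _ = ev a r2 * cp c (lin T.n e M2) * ev a v := by rw [← cp_comm h.cen, mul_assoc]
      _ = ev a u * cp c (lin T.n e M1) * ev a v := by rw [h4]
      _ = ev a u * ev a v * cp c (lin T.n e M1) := by rw [mul_assoc, cp_comm h.cen, mul_assoc]
      _ = _ := by rw [h2]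
  rw [e1, mul_assoc, cp_self h.cc] at h6
  exact cp_eq_one h.ne (mul_left_cancel h6).symm

end sound

end Cfsg.Agent.KFacts.PcTail

end

-- merged: Cfsg.Agent.KFacts.RuDbl.Data
section

/-!
Data: relations of the Sylow 2-subgroup of the Rudvalis group in the form `g j * g i = g i * g j * w`, equalities of
words whose tails form a regular system, and the inverse of this system.
-/

set_option autoImplicit false
set_option maxRecDepth 100000

namespace Cfsg.Agent.KFacts.RuDbl.Data

open Cfsg.Agent.KFacts.PcTail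

def sqd : List (List ℕ) := [[], [], [], [10], [11], [13], [13], [11], [13], [], [], [], [], []]

/-- `cmd i j`, `i < j` -/
def cmd : List (List (List ℕ)) := [
  [[], [5, 13], [4, 11], [6, 7, 8, 10, 12, 13], [11], [13], [11, 12, 13], [11, 12], [11, 12, 13], [11], [11, 13], [], [], []],
  [[], [], [3, 10], [10], [6, 11], [13], [12, 13], [9, 11, 12, 13], [10, 13], [12], [], [12], [], []],
  [[], [], [], [10], [11], [7, 13], [8, 9, 11, 12], [11], [10, 11], [10, 11, 13], [], [], [13], []],
  [[], [], [], [], [8, 9, 10, 11], [9, 10, 12, 13], [10], [10, 11], [12, 13], [12], [], [13], [], []],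
  [[], [], [], [], [], [11, 12, 13], [12, 13], [13], [11], [11, 13], [], [], [], []],
  [[], [], [], [], [], [], [12], [11], [11, 13], [12], [12], [], [], []],
  [[], [], [], [], [], [], [], [11, 12, 13], [12], [12], [], [], [], []],
  [[], [], [], [], [], [], [], [], [12, 13], [12], [13], [], [], []],
  [[], [], [], [], [], [], [], [], [], [13], [], [], [], []],
  [[], [], [], [], [], [], [], [], [], [], [], [], [], []],
  [[], [], [], [], [], [], [], [], [], [], [], [], [], []],
  [[], [], [], [], [], [], [], [], [], [], [], [], [], []],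
  [[], [], [], [], [], [], [], [], [], [], [], [], [], []],
  [[], [], [], [], [], [], [], [], [], [], [], [], [], []]]


def sqN (i : ℕ) : List ℕ := sqd.getD i []
def cmN (i j : ℕ) : List ℕ := (cmd.getD i []).getD j []
def tid (i j : ℕ) : ℕ := Nat.add 14 (Nat.add (Nat.div (Nat.mul j (Nat.sub j 1)) 2) i)

def tab : Tab := ⟨14, 105, sqN, cmN, fun i => i, tid⟩

/-- the definitions -/
def eD : List (List ℕ × List ℕ × ℕ) := [
  ([1, 2, 1, 2], [3], 0x2000000000090406),
  ([0, 2, 0, 2], [4], 0x800000000000408805),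
  ([0, 1, 0, 1], [5], 0x200000000000000002006003),
  ([0, 1, 0, 2, 0, 2, 1, 2, 0, 2], [6], 0x8728100cc0200000061268283a),
  ([0, 1, 0, 1, 2, 0, 1, 0, 1, 2], [7], 0x8000000000000000004002024),
  ([0, 1, 2, 0, 1, 2, 0, 1, 2, 0, 1, 2], [8], 0x9787304a118061200718800978),
  ([0, 1, 0, 2, 1, 2, 0, 1, 0, 2, 1, 2], [9], 0x20020000110000000008002428),
  ([1, 2, 1, 2, 1, 2, 1, 2], [10], 0x8),
  ([0, 2, 0, 2, 0, 2, 0, 2], [11], 0x10),
  ([0, 1, 2, 0, 2, 1, 0, 1, 2, 0, 2, 1], [12], 0x820f20ea000000000610001870),
  ([0, 1, 0, 1, 0, 1, 0, 1], [13], 0x20)]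

/-- squares of involutions -/
def eS : List (List ℕ × ℕ) := [
  ([1], 0x2),
  ([2], 0x4),
  ([0, 4, 5, 8], 0x82091024000000c40011103931),
  ([3, 7, 8], 0x188008090040002204000001d88),
  ([4, 6, 7, 8], 0x100040280000034282000021d0),
  ([5, 6, 7, 8], 0x1040040300000038304000021e0),
  ([0], 0x1),
  ([0, 4, 5, 6, 7], 0x8608001e000000038e311010f1)]

/-- the commutator of `[9]` and `[0, 3, 4, 5]` -/
def eC : ℕ := 0x1810830030000e4000000003800

/-- associativity -/
def eK : List (List ℕ × List ℕ × ℕ) := [
  ([3, 3], [3], 0x4000000000000000),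
  ([4, 4], [4], 0x2000000000000000000),
  ([5, 5], [5], 0x2000000000000000000000000),
  ([6, 6], [6], 0x4000000000000000000000000),
  ([7, 7], [7], 0x10000000000000000000),
  ([8, 8], [8], 0x10000000000000000000000000),
  ([9, 9], [0], 0x40000000000000000800),
  ([9, 9], [1], 0x20000000000000000001000),
  ([9, 9], [8], 0x20000000000000000000002000),
  ([10, 10], [5], 0x40000000000000000001000),
  ([10, 10], [7], 0x40000000000000000000002000),
  ([11, 11], [1], 0x80000000000000000001000),
  ([11, 11], [3], 0x80000000000000000000002000),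
  ([12, 12], [2], 0x100000000000000000000002000),
  ([10, 4], [4], 0x80000000000000000000),
  ([10, 6], [6], 0x40000000000000000000000000),
  ([12, 3], [3], 0x40000000000000000000000),
  ([3, 1], [1], 0x1000000000000400),
  ([3, 2], [2], 0x2000000000000400),
  ([4, 0], [0], 0x200000000000000800),
  ([4, 2], [2], 0x800000000000000800),
  ([5, 0], [0], 0x100000000000000000002000),
  ([5, 1], [1], 0x200000000000000000002000),
  ([9, 1], [1], 0x200000000000000001000),
  ([12, 2], [2], 0x400000000000000000002000),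
  ([6, 6], [3], 0x800000020000000000000400),
  ([6, 6], [5], 0x2004000000000000000001000),
  ([7, 7], [4], 0x8000002000000000000002000),
  ([7, 7], [5], 0x14000000000000000800),
  ([8, 8], [4], 0x1000020000000000000000800),
  ([8, 8], [6], 0x4010000000000000000001000),
  ([10, 10], [0], 0xc0000080000000000000002800),
  ([6, 3], [3], 0x24000000000000400),
  ([6, 5], [5], 0x4002000000000000000001000),
  ([7, 4], [4], 0x1000010000000000000002000),
  ([9, 3], [3], 0x800100000000000001000),
  ([9, 7], [7], 0x8040000000000000001000),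
  ([1, 1], [0], 0x200000000000000002000020),
  ([2, 2], [0], 0x800000000000400010),
  ([2, 2], [1], 0x2000000000080008),
  ([7, 0], [0], 0x80100200000000000001800),
  ([8, 8], [1], 0x50200000080000000000002400),
  ([9, 9], [2], 0xe00000c0100000000000002c00),
  ([10, 4], [1], 0x80020000000000000000),
  ([1, 0], [0], 0x2100000000000000001000020),
  ([2, 0], [0], 0x2200000000000100010),
  ([2, 1], [1], 0x5000000000040008),
  ([5, 2], [2], 0x88400000000000002000002880),
  ([5, 5], [2], 0xa400010000000010000002880),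
  ([6, 4], [4], 0x101001008000000000000003000),
  ([7, 7], [3], 0x40000091040000000000000c00),
  ([6, 6], [0], 0x184184008000000000000003800),
  ([4, 1], [1], 0x180080008400000000040003840),
  ([4, 4], [1], 0x10400400a400000000200002840),
  ([8, 4], [2], 0x22808000000000000000),
  ([10, 5], [2], 0x40008400040000000000000000),
  ([7, 7], [1], 0x1a8088050400200000000003a00),
  ([10, 1], [0], 0xc2282004410000000000001000),
  ([5, 5], [3], 0x162822000110080000000002600),
  ([7, 1], [1], 0x1a0220240400008000000002a00),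
  ([9, 1], [0], 0x1a0000104400080000000001000),
  ([5, 3], [3], 0x60820800114020000000002600),
  ([6, 6], [2], 0x120494068000501000000002b00),
  ([9, 4], [1], 0x184205048400100000000000000),
  ([7, 2], [0], 0x101001410a00000008000002000),
  ([8, 4], [1], 0x105040028428001000000000000),
  ([4, 4], [3], 0x900000a3188440400000002700),
  ([5, 4], [1], 0x8128420c400000000400001000),
  ([6, 2], [2], 0x1a00b04a0900410100000001700),
  ([9, 2], [0], 0x411000c0a08840000000000000),
  ([8, 2], [1], 0x140cc0001483000200000002000),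
  ([5, 2], [0], 0x180588004000000008810002000),
  ([7, 4], [3], 0x1508200721c8202000000003000),
  ([8, 6], [2], 0x400a04c81a0400000000002000),
  ([4, 1], [0], 0x81006000600000000430002800),
  ([7, 1], [0], 0x2a1a2300600084010000001000),
  ([7, 4], [1], 0x1852a5012000140020000003800),
  ([8, 1], [0], 0xd0340204410800800000001000),
  ([4, 3], [1], 0xa00e00e9489109080100000000),
  ([5, 2], [1], 0x6e0080110200005008000400),
  ([5, 3], [2], 0x108ce0400112210004000002000),
  ([6, 2], [0], 0x1a04a0508a00044440200002000),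
  ([3, 3], [0], 0xc88808080a48032241000019c0),
  ([4, 2], [1], 0x1f40c0801c08521200180802f00),
  ([2, 1], [0], 0xfd4ef08b498e4302c41ca23b80)]

/-- the system -/
def masks : List ℕ := eD.map (fun q => q.2.2) ++ (eS.map (fun q => q.2) ++ (eC :: eK.map fun q => q.2.2))

/-- the inverse of the system -/
def cs : List ℕ := [
  0x20000,
  0x800,
  0x1000,
  0x80,
  0x100,
  0x400,
  0x332843830807f21980d110400,
  0x130781660615aa48ce8108100,
  0x20788e54e0d0fab88e8aed2400,
  0x16000501024855c100000,
  0x8010000400100000,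
  0x8000d00000000,
  0x1020000000,
  0x840000000,
  0x200000840020c04,
  0x408000d00021102,
  0x8810000400101881,
  0x140001e3ae08f54639300d01eb8,
  0x48010002400000080,
  0x8810004400100080,
  0x20008008d00200100,
  0x2392d456534f40dc8969e2a908,
  0x408010d00000100,
  0x6304892c2340e96464647a61e0,
  0x10000020840400400,
  0x200040840000400,
  0x800000201410,
  0x20a0504ec38171bb052553a6c0,
  0x80028000274e0ded000700,
  0x400002000006009ecc400700,
  0x2392d457734127dc848542a600,
  0xa1c8d1069031dd769e9775a360,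
  0x62680f00f080518b12cefc6080,
  0x2392d4547341279c9d65a2a600,
  0x20a0d06e43c119b11e8813a200,
  0x2050333260e18ad09db45d2300,
  0x29a4051043504ce965fcc36740,
  0x13078166861523480e8308100,
  0x104540e80c00ce6f60960c180,
  0x2058b330e0e0ac8c9b9c5d2400,
  0x13078167061523489a9708100,
  0x488000930147ce1488c60700,
  0x222c14ae3d11a61933d522700,
  0x463085d8d011f52cb36c214480,
  0x1105795aa01125e224e580c180,
  0xfcf356c300ec446f321e8600,
  0x1b01756f0c1b5ec1af1888100,
  0x23ead84ad0c07d3b9fca55a500,
  0x20a0706a434118fc0149f3a200,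
  0xe8f2228311fcf190252e8600,
  0x1b07916706173be0a20908100,
  0x20a0518ec39148978ae883a200,
  0x315cf66ec031893933c43de580,
  0x20a0532ec311e1bf990d53a200,
  0x21e8d86ed0c057331e6cb5a500,
  0x20a0516ec3d151bf921993a200,
  0x20a0586ee3c110fb08ed53a200,
  0x20a0511ec390401b9745a3a200,
  0x2078a330c000a4890b275d2400,
  0x21ead86ad0c05d31972895a500,
  0x8010002400100000,
  0x8010004400100000,
  0x100000,
  0x4000042010841200000,
  0x20a0504ec3c171bb104953a200,
  0x8000000400000000,
  0x2058a33840e1accf00399d2400,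
  0xa010040c02100000,
  0xc010000154100000,
  0x8008d00000000,
  0x20a0506ec3c158bf04e893a200,
  0x8010d00000000,
  0x2058a3380061b4cf05388d2400,
  0x200000,
  0x9000d01000000,
  0x800008421ea0c00000,
  0x1000000,
  0x4a000541000000,
  0x8000d04000000,
  0x400000000,
  0x1000008080000000,
  0x81020000000,
  0x2058a33040e0a4cf151d9d2400,
  0xc090001174100000,
  0xa000484204c1c00000,
  0x20001020800000,
  0x401020400000,
  0x108001d24000000,
  0x4001020800000,
  0x1028000000,
  0x1000000000,
  0x10a0000000,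
  0x20840000000,
  0x40840000000,
  0x100840000000,
  0x10200000100000,
  0x40000841000000,
  0x400000,
  0x800000,
  0x800840200000,
  0x2000000,
  0x850000000,
  0x800000000,
  0x940000000,
  0xa40000000]


theorem chkD : eD.all (fun q => chkE tab q.1 q.2.1 q.2.2) = true := by decide +kernel
theorem chkS : eS.all (fun q => chkE tab (q.1 ++ q.1) [] q.2) = true := by decide +kernel
theorem chkC : chkE tab ([9] ++ [0, 3, 4, 5]) ([0, 3, 4, 5] ++ [9]) eC = true := by decide +kernel
theorem chkKK : eK.all (fun q => chkK tab q.1 q.2.1 q.2.2) = true := by decide +kernel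
theorem chkI : ∀ k < 105, Nat.beq (comb masks (cs.getD k 0) 0) (2 ^ k) = true := by decide +kernel

end Cfsg.Agent.KFacts.RuDbl.Data

end
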