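import Cfsg.Agent.Schreier.RuSyl

/-!
# Conjugacy of involutions in the group of the Rudvalis graph

Words in four involutions: the three generators of the Sylow 2-subgroup of `Schreier.RuSyl` and `RuData.net2`.
`conjA`: the involutions `W (ex e)`, `e` in `wA`, are conjugate to `g 13` (class 2A, twelve classes of the Sylow
2-subgroup `T`, with `g 13`); `conjB`: `W (ex e)`, `e` in `wB`, is conjugate to `g 0` (class 2B, three classes of `T`).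
`pair`: an element of `T` commuting with `g 9` moved into `T` together with `g 9 ↦ g 13`.
-/

set_option autoImplicit false
set_option maxRecDepth 100000
set_option exponentiation.threshold 5000

namespace Cfsg.Agent.KFacts.RuDbl.Four

open Cfsg.Agent.SporadicB Cfsg.Agent.Lib.BitNet Cfsg.Agent.Schreier.RuNet Cfsg.Agent.Schreier.RuMem
open Cfsg.Agent.Schreier.RuSyl

def net4 : ℕ → List (ℕ × ℕ)
  | 0 => n0
  | 1 => n1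
  | 2 => n2
  | _ => RuData.net2

/-- the letters -/
noncomputable def L4 : ℕ → RuOrder.H
  | 0 => ⟨_, mem0⟩
  | 1 => ⟨_, mem1⟩
  | 2 => ⟨_, mem2⟩
  | _ => ⟨perm RuOrder.mem2.choose, RuOrder.mem2.choose_spec⟩

theorem L4_apply (l : ℕ) (p : Fin 4060) : (((L4 l : RuOrder.H) : Equiv.Perm (Fin 4060)) p : ℕ) = app (net4 l) p := by
  unfold L4 net4
  split <;> rfl

theorem L4_eq {l : ℕ} (h : l < 3) : L4 l = L l := by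
  rcases (by omega : l = 0 ∨ l = 1 ∨ l = 2) with rfl | rfl | rfl <;> rfl

/-- value of a word at a point -/
noncomputable def ev4 : List ℕ → ℕ → ℕ
  | [], p => p
  | l :: w, p => fr (ev4 w p) (app (net4 l))

noncomputable def W4 (w : List ℕ) : RuOrder.H := (w.map L4).prod

theorem W4_append (u v : List ℕ) : W4 (u ++ v) = W4 u * W4 v := by
  unfold W4; rw [List.map_append, List.prod_append]

theorem W4_cons (l : ℕ) (v : List ℕ) : W4 (l :: v) = L4 l * W4 v := by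
  unfold W4; rw [List.map_cons, List.prod_cons]

theorem W4_nil : W4 [] = 1 := rfl

theorem W4_apply (p : Fin 4060) : ∀ w : List ℕ, (((W4 w : RuOrder.H) : Equiv.Perm (Fin 4060)) p : ℕ) = ev4 w p
  | [] => rfl
  | l :: w => by
    rw [W4_cons]
    change (((L4 l : RuOrder.H) : Equiv.Perm (Fin 4060)) (((W4 w : RuOrder.H) : Equiv.Perm (Fin 4060)) p) : ℕ) = _
    rw [L4_apply, W4_apply p w, ev4, fr_eq]

/-- comparison of two words on the base points -/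
noncomputable def eqw4 (u v : List ℕ) : Bool :=
  cond (Nat.beq (ev4 u 0) (ev4 v 0)) (cond (Nat.beq (ev4 u 29) (ev4 v 29)) (cond (Nat.beq (ev4 u 580) (ev4 v 580))
    (Nat.beq (ev4 u 577) (ev4 v 577)) false) false) false

theorem eqw4_sound {u v : List ℕ} (h : eqw4 u v = true) : W4 u = W4 v := by
  unfold eqw4 at h
  obtain ⟨h1, h⟩ := and_of_cond h
  obtain ⟨h2, h⟩ := and_of_cond h
  obtain ⟨h3, h4⟩ := and_of_cond h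
  have key : ∀ b : Fin 4060, Nat.beq (ev4 u b) (ev4 v b) = true →
      ((W4 u : RuOrder.H) : Equiv.Perm (Fin 4060)) b = ((W4 v : RuOrder.H) : Equiv.Perm (Fin 4060)) b := by
    intro b hb
    apply Fin.ext
    rw [W4_apply, W4_apply]
    exact Nat.eq_of_beq_eq_true hb
  exact eq_of_base (key _ h1) (key _ h2) (key _ h3) (key _ h4)

theorem W4_eq_W : ∀ {w : List ℕ}, (w.all fun l => Nat.blt l 3) = true → W4 w = W w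
  | [], _ => rfl
  | l :: w, h => by
    rw [List.all_cons, Bool.and_eq_true] at h
    rw [W4_cons, W_cons, L4_eq (Nat.blt_eq.mp h.1), W4_eq_W h.2]

/-! ### conjugators -/

/-- `(e, h)`: `h x = (g 13) h` for `x` the product of the `g i`, `i` in `e` -/
def wA : List (List ℕ × List ℕ) := [
  ([1], [0, 1, 0, 1, 0, 1, 0, 1, 3, 1, 0, 1, 0, 3, 2, 1, 2, 3, 0, 1, 0, 1, 3, 0, 1, 0, 1, 0, 1, 0, 1, 3, 1, 0, 1, 0,
    3, 2, 1]),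
  ([2], [0, 1, 0, 1, 0, 1, 0, 1, 3, 1, 3, 1, 2, 1, 3, 1, 3, 0, 1, 0, 1, 0, 1, 0, 1, 3, 1, 3, 1, 2]),
  ([0, 4, 5, 8], [0, 1, 0, 1, 0, 1, 0, 1, 3, 0, 1, 2, 0, 3, 0, 2, 0, 2, 0, 1, 0, 1, 0, 1, 2, 0, 1, 2, 0, 1, 2, 0, 1,
    2, 0, 3, 0, 2, 1, 0, 3, 0, 1, 0, 1, 0, 1, 0, 1, 3, 0, 1, 2, 0, 3, 0, 2, 0, 2, 0, 1, 0, 1, 0, 1, 2, 0, 1, 2, 0,
    1, 2, 0, 1, 2]),
  ([3, 7, 8], [0, 1, 0, 1, 0, 1, 0, 1, 3, 2, 3, 0, 1, 2, 1, 2, 0, 1, 0, 1, 2, 0, 1, 0, 1, 2, 0, 1, 2, 0, 1, 2, 0, 1,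
    2, 0, 1, 2, 0, 3, 2, 3, 0, 1, 0, 1, 0, 1, 0, 1, 3, 2, 3, 0, 1, 2, 1, 2, 0, 1, 0, 1, 2, 0, 1, 0, 1, 2, 0, 1, 2,
    0, 1, 2, 0, 1, 2, 0, 1, 2]),
  ([4, 6, 7, 8], [0, 1, 0, 1, 0, 1, 0, 1, 3, 2, 3, 2, 0, 2, 0, 1, 0, 2, 0, 2, 1, 2, 0, 2, 0, 1, 0, 1, 2, 0, 1, 0, 1,
    2, 0, 1, 2, 0, 1, 2, 0, 1, 2, 0, 1, 2, 0, 3, 2, 3, 0, 1, 0, 1, 0, 1, 0, 1, 3, 2, 3, 2, 0, 2, 0, 1, 0, 2, 0, 2,
    1, 2, 0, 2, 0, 1, 0, 1, 2, 0, 1, 0, 1, 2, 0, 1, 2, 0, 1, 2, 0, 1, 2, 0, 1, 2]),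
  ([5, 6, 7, 8], [0, 1, 0, 1, 0, 1, 0, 1, 0, 3, 1, 2, 3, 0, 1, 0, 1, 0, 1, 0, 2, 0, 2, 1, 2, 0, 2, 0, 1, 0, 1, 2, 0,
    1, 0, 1, 2, 0, 1, 2, 0, 1, 2, 0, 1, 2, 0, 1, 2, 3, 2, 1, 3, 1, 0, 1, 0, 1, 0, 1, 0, 3, 1, 2, 3, 0, 1, 0, 1, 0,
    1, 0, 2, 0, 2, 1, 2, 0, 2, 0, 1, 0, 1, 2, 0, 1, 0, 1, 2, 0, 1, 2, 0, 1, 2, 0, 1, 2, 0, 1, 2]),
  ([9], [0, 1, 0, 1, 0, 1, 0, 1, 0, 3, 2, 3, 0, 1, 0, 2, 1, 2, 0, 1, 0, 2, 1, 2, 3, 2, 3, 1, 0, 1, 0, 1, 0, 1, 0, 3,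
    2, 3, 0, 1, 0, 2, 1, 2, 0, 1, 0, 2, 1, 2]),
  ([8, 9], [0, 1, 0, 1, 0, 1, 0, 1, 3, 0, 1, 2, 0, 1, 2, 0, 1, 2, 0, 1, 2, 0, 1, 0, 2, 1, 2, 0, 1, 0, 2, 1, 2, 3, 0,
    1, 0, 1, 0, 1, 0, 1, 3, 0, 1, 2, 0, 1, 2, 0, 1, 2, 0, 1, 2, 0, 1, 0, 2, 1, 2, 0, 1, 0, 2, 1, 2, 3, 0, 1, 0, 1,
    0, 1, 0, 1, 3, 0, 1, 2, 0, 1, 2, 0, 1, 2, 0, 1, 2, 0, 1, 0, 2, 1, 2, 0, 1, 0, 2, 1, 2]),
  ([10], [0, 1, 0, 1, 0, 1, 0, 1, 3, 0, 1, 2, 1, 2, 1, 2, 1, 2, 0, 3, 0, 1, 0, 1, 0, 1, 0, 1, 3, 0, 1, 2, 1, 2, 1,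
    2, 1, 2, 0, 3, 0, 1, 0, 1, 0, 1, 0, 1, 3, 0, 1, 2, 1, 2, 1, 2, 1, 2]),
  ([11], [0, 1, 0, 1, 0, 1, 0, 1, 3, 1, 0, 2, 0, 2, 0, 2, 0, 2, 1, 3, 0, 1, 0, 1, 0, 1, 0, 1, 3, 1, 0, 2, 0, 2, 0,
    2, 0, 2, 1, 3, 0, 1, 0, 1, 0, 1, 0, 1, 3, 1, 0, 2, 0, 2, 0, 2, 0, 2]),
  ([12], [0, 1, 0, 1, 0, 1, 0, 3, 2, 3, 0, 3, 1, 0, 1, 2, 0, 2, 1, 0, 1, 2, 0, 2, 3, 0, 3, 2, 3, 1, 0, 1, 0, 1, 0,
    1, 0, 3, 2, 3, 0, 3, 1, 0, 1, 2, 0, 2, 1, 0, 1, 2, 0, 2, 3, 0, 3, 2, 3, 1, 0, 1, 0, 1, 0, 1, 0, 3, 2, 3, 0, 3,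
    1, 0, 1, 2, 0, 2, 1, 0, 1, 2, 0, 2, 3, 0, 3, 2, 3, 1, 0, 1, 0, 1, 0, 1, 0, 3, 2, 3, 0, 3, 1, 0, 1, 2, 0, 2, 1,
    0, 1, 2, 0, 2, 1])]
/-- `(e, h)`: `h x = (g 0) h` for `x` the product of the `g i`, `i` in `e` -/
def wB : List (List ℕ × List ℕ) := [
  ([0, 4, 5, 6, 7], [0, 3, 0, 3, 1, 2, 0, 2, 0, 1, 0, 1, 0, 1, 0, 2, 0, 2, 1, 2, 0, 2, 0, 1, 0, 1, 2, 0, 1, 0, 1, 2,
    1, 3, 0, 3, 0, 3, 0, 3, 1, 2, 0, 2, 0, 1, 0, 1, 0, 1, 0, 2, 0, 2, 1, 2, 0, 2, 0, 1, 0, 1, 2, 0, 1, 0, 1, 2, 1,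
    3, 0, 3, 0, 3, 0, 3, 1, 2, 0, 2, 0, 1, 0, 1, 0, 1, 0, 2, 0, 2, 1, 2, 0, 2, 0, 1, 0, 1, 2, 0, 1, 0, 1, 2]),
  ([4, 5, 6, 8], [0, 3, 1, 3, 0, 2, 0, 2, 0, 1, 0, 1, 0, 1, 0, 2, 0, 2, 1, 2, 0, 2, 0, 1, 2, 0, 1, 2, 0, 1, 2, 0, 1,
    2, 3, 1, 3, 0, 3, 1, 3, 0, 2, 0, 2, 0, 1, 0, 1, 0, 1, 0, 2, 0, 2, 1, 2, 0, 2, 0, 1, 2, 0, 1, 2, 0, 1, 2, 0, 1,
    2, 3, 1, 3, 0, 3, 1, 3, 0, 2, 0, 2, 0, 1, 0, 1, 0, 1, 0, 2, 0, 2, 1, 2, 0, 2, 0, 1, 2, 0, 1, 2, 0, 1, 2, 0, 1,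
    2])]

theorem chkA_0 : (wA.take 4).all (fun q => eqw4 (q.2 ++ ex q.1) (gwd 13 ++ q.2)) = true := by decide +kernel
theorem chkA_1 : ((wA.drop 4).take 3).all (fun q => eqw4 (q.2 ++ ex q.1) (gwd 13 ++ q.2)) = true := by
  decide +kernel
theorem chkA_2 : ((wA.drop 7).take 2).all (fun q => eqw4 (q.2 ++ ex q.1) (gwd 13 ++ q.2)) = true := by
  decide +kernel
theorem chkA_3 : (wA.drop 9).all (fun q => eqw4 (q.2 ++ ex q.1) (gwd 13 ++ q.2)) = true := by decide +kernel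
theorem chkA : wA.all (fun q => eqw4 (q.2 ++ ex q.1) (gwd 13 ++ q.2)) = true := by
  have h : wA = wA.take 4 ++ ((wA.drop 4).take 3 ++ ((wA.drop 7).take 2 ++ wA.drop 9)) := rfl
  rw [h, List.all_append, List.all_append, List.all_append, chkA_0, chkA_1, chkA_2, chkA_3]
  rfl
theorem chkB : wB.all (fun q => eqw4 (q.2 ++ ex q.1) (gwd 0 ++ q.2)) = true := by decide +kernel
theorem smallA : wA.all (fun q => (ex q.1).all fun l => Nat.blt l 3) = true := by decide +kernel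
theorem smallB : wB.all (fun q => (ex q.1).all fun l => Nat.blt l 3) = true := by decide +kernel

theorem isConj_of {e h t : List ℕ} (h1 : eqw4 (h ++ ex e) (t ++ h) = true)
    (h2 : ((ex e).all fun l => Nat.blt l 3) = true) (h3 : (t.all fun l => Nat.blt l 3) = true) :
    IsConj (W t) (W (ex e)) := by
  have h4 := eqw4_sound h1
  rw [W4_append, W4_append, W4_eq_W h2, W4_eq_W h3] at h4
  apply IsConj.symm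
  rw [isConj_iff]
  exact ⟨W4 h, by rw [h4, mul_inv_cancel_right]⟩

theorem conjA : ∀ q ∈ wA, IsConj (g 13) (W (ex q.1)) := fun q hq =>
  isConj_of (List.all_eq_true.1 chkA q hq) (List.all_eq_true.1 smallA q hq) (by decide)

theorem conjB : ∀ q ∈ wB, IsConj (g 0) (W (ex q.1)) := fun q hq =>
  isConj_of (List.all_eq_true.1 chkB q hq) (List.all_eq_true.1 smallB q hq) (by decide)

theorem conjA' : ∀ e ∈ [[1], [2], [0, 4, 5, 8], [3, 7, 8], [4, 6, 7, 8], [5, 6, 7, 8], [9], [8, 9], [10], [11], [12], [13]], IsConj (g 13) (W (ex e)) := by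
  intro e he
  by_cases h : e = [13]
  · subst h
    have : W (ex [13]) = g 13 := by rw [W_ex, List.map_cons, List.map_nil, List.prod_cons, List.prod_nil, mul_one]
    rw [this]
  · have h1 : ∀ e ∈ [[1], [2], [0, 4, 5, 8], [3, 7, 8], [4, 6, 7, 8], [5, 6, 7, 8], [9], [8, 9], [10], [11], [12]], ∃ q ∈ wA, q.1 = e := by decide
    have h2 : e ∈ [[1], [2], [0, 4, 5, 8], [3, 7, 8], [4, 6, 7, 8], [5, 6, 7, 8], [9], [8, 9], [10], [11], [12]] := by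
      simp only [List.mem_cons, List.not_mem_nil, or_false] at he ⊢
      tauto
    obtain ⟨q, hq, rfl⟩ := h1 e h2
    exact conjA q hq

theorem conjB' : ∀ e ∈ [[0], [0, 4, 5, 6, 7], [4, 5, 6, 8]], IsConj (g 0) (W (ex e)) := by
  intro e he
  by_cases h : e = [0]
  · subst h
    have : W (ex [0]) = g 0 := by rw [W_ex, List.map_cons, List.map_nil, List.prod_cons, List.prod_nil, mul_one]
    rw [this]
  · have h1 : ∀ e ∈ [[0, 4, 5, 6, 7], [4, 5, 6, 8]], ∃ q ∈ wB, q.1 = e := by decide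
    have h2 : e ∈ [[0, 4, 5, 6, 7], [4, 5, 6, 8]] := by
      simp only [List.mem_cons, List.not_mem_nil, or_false] at he ⊢
      tauto
    obtain ⟨q, hq, rfl⟩ := h1 e h2
    exact conjB q hq

/-- moves `g 9` to `g 13` and `[0, 3, 4, 5]` into the Sylow subgroup -/
def wC : List ℕ := [
  0, 1, 0, 1, 0, 1, 0, 3, 0, 1, 3, 2, 1, 0, 1, 0, 2, 1, 2, 0, 1, 0, 2, 1, 2, 1, 2, 3, 1, 0, 3, 1, 0, 1, 0, 1, 0,
  1, 0, 3, 0, 1, 3, 2, 1, 0, 1, 0, 2, 1, 2, 0, 1, 0, 2, 1, 2]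
/-- the image of `[0, 3, 4, 5]` -/
def eC' : List ℕ := [0, 3, 7, 9, 13]

theorem chkC1 : eqw4 (wC ++ ex [9]) (ex [13] ++ wC) = true := by decide +kernel
theorem chkC2 : eqw4 (wC ++ ex [0, 3, 4, 5]) (ex eC' ++ wC) = true := by decide +kernel

theorem pair : ∃ h : RuOrder.H, h * W (ex [9]) = W (ex [13]) * h ∧
    h * W (ex [0, 3, 4, 5]) = W (ex eC') * h := by
  have h1 := eqw4_sound chkC1
  have h2 := eqw4_sound chkC2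
  rw [W4_append, W4_append, W4_eq_W (w := ex [9]) (by decide), W4_eq_W (w := ex [13]) (by decide)] at h1
  rw [W4_append, W4_append, W4_eq_W (w := ex [0, 3, 4, 5]) (by decide), W4_eq_W (w := ex eC') (by decide)] at h2
  exact ⟨_, h1, h2⟩

end Cfsg.Agent.KFacts.RuDbl.Four
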